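import Mathlib.RingTheory.Ideal.AssociatedPrime.Localization
import Mathlib.RingTheory.Localization.AtPrime.Basic
import Mathlib.RingTheory.Ideal.MinimalPrime.Localization
import Mathlib.RingTheory.Ideal.GoingUp

/-!
# Weakly associated primes and localization (helper18)

Namespace `Groth.Agent.Lib.Helper18.WeakAss`.

For a commutative ring `R`, a prime `p`, `R' = R_p` and a localized module `f : M → M' = M_p`:

* `ann m` : the annihilator ideal `ker (toSpanSingleton R M m)`.
* `radical_ann_eq_maximalIdeal_iff` :
  `radical (ann (f m)) = maximalIdeal R' ↔ p ∈ (ann m).minimalPrimes`  (Stacks 0566).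
* `exists_minimalPrimes_ann` : `m ≠ 0 → ∃ p ∈ (ann m).minimalPrimes`.
* `exists_minimalPrimes_ann_comap` : for `φ : A →+* B` and a `B`-module `M` (also an `A`-module
  through `φ`), every minimal prime over `ann_A m` is the contraction of a minimal prime over
  `ann_B m` (Stacks 05C3).
-/

open LinearMap Submodule IsLocalRing

namespace Groth.Agent.Lib.Helper18.WeakAss

section basic

variable {R : Type*} [CommRing R] {M : Type*} [AddCommGroup M] [Module R M]

/-- The annihilator of an element, in the form used by `Curv2.IsWeakAssPoint`. -/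
abbrev ann (R : Type*) [CommRing R] {M : Type*} [AddCommGroup M] [Module R M] (m : M) : Ideal R :=
  LinearMap.ker (LinearMap.toSpanSingleton R M m)

lemma mem_ann {m : M} {r : R} : r ∈ ann R m ↔ r • m = 0 := by
  simp [ann, LinearMap.mem_ker]

lemma ann_eq_colon (m : M) : ann R m = colon (⊥ : Submodule R M) {m} := by
  ext r
  simp [mem_colon_singleton]

lemma ann_ne_top {m : M} (hm : m ≠ 0) : ann R m ≠ ⊤ := by
  intro h
  apply hm
  have : (1 : R) ∈ ann R m := h ▸ Submodule.mem_top
  simpa [mem_ann] using this

lemma exists_minimalPrimes_ann {m : M} (hm : m ≠ 0) : ∃ p, p ∈ (ann R m).minimalPrimes := by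
  obtain ⟨P, hP, hle⟩ := Ideal.exists_le_maximal _ (ann_ne_top (R := R) hm)
  obtain ⟨p, hp, -⟩ := Ideal.exists_minimalPrimes_le (I := ann R m) (J := P) hle
  exact ⟨p, hp⟩

lemma ann_smul_of_isUnit {m : M} {u : R} (hu : IsUnit u) : ann R (u • m) = ann R m := by
  ext r
  rw [mem_ann, mem_ann, smul_comm]
  exact hu.smul_eq_zero

end basic

section loc

variable {R : Type*} [CommRing R] (p : Ideal R) [p.IsPrime]
  {R' : Type*} [CommRing R'] [Algebra R R'] [IsLocalization.AtPrime R' p] [IsLocalRing R']
  {M M' : Type*} [AddCommGroup M] [Module R M] [AddCommGroup M'] [Module R M']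
  [Module R' M'] [IsScalarTower R R' M']
  (f : M →ₗ[R] M') [IsLocalizedModule p.primeCompl f]

include p f in
lemma map_eq_zero_iff_exists (m : M) : f m = 0 ↔ ∃ t : R, t ∉ p ∧ t • m = 0 := by
  rw [IsLocalizedModule.eq_zero_iff p.primeCompl f]
  constructor
  · rintro ⟨⟨t, ht⟩, h⟩
    exact ⟨t, ht, h⟩
  · rintro ⟨t, ht, h⟩
    exact ⟨⟨t, ht⟩, h⟩

omit [IsLocalization.AtPrime R' p] [IsLocalRing R'] in
include f in
lemma algebraMap_mem_ann_iff (m : M) (r : R) :
    algebraMap R R' r ∈ ann R' (f m) ↔ ∃ t : R, t ∉ p ∧ (t * r) ∈ ann R m := by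
  rw [mem_ann, algebraMap_smul, ← map_smul, map_eq_zero_iff_exists p f]
  simp only [mem_ann, mul_smul]

include f in
/-- Stacks 0566 (one form): `p R_p = rad (ann (m/1))` iff `p` is minimal over `ann m`. -/
theorem radical_ann_eq_maximalIdeal_iff (m : M) :
    (ann R' (f m)).radical = maximalIdeal R' ↔ p ∈ (ann R m).minimalPrimes := by
  have hcomap : (maximalIdeal R').comap (algebraMap R R') = p :=
    IsLocalization.AtPrime.under_maximalIdeal R' p
  constructor
  · intro h
    refine ⟨⟨inferInstance, ?_⟩, ?_⟩
    · intro r hr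
      rw [← hcomap, Ideal.mem_comap, ← h]
      apply Ideal.le_radical
      rw [algebraMap_mem_ann_iff p f]
      exact ⟨1, fun h1 => (Ideal.IsPrime.ne_top ‹p.IsPrime›) ((Ideal.eq_top_iff_one _).2 h1),
        by simpa using hr⟩
    · rintro q ⟨hq, hle⟩ hqp
      -- Q = map q
      have hdisj : Disjoint (p.primeCompl : Set R) (q : Set R) := by
        rw [Set.disjoint_left]
        intro t ht htq
        exact ht (hqp htq)
      have hQ : (q.map (algebraMap R R')).IsPrime :=
        IsLocalization.isPrime_of_isPrime_disjoint p.primeCompl R' q hq hdisj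
      have hQc : (q.map (algebraMap R R')).comap (algebraMap R R') = q :=
        IsLocalization.under_map_of_isPrime_disjoint p.primeCompl R' hq hdisj
      have hann : ann R' (f m) ≤ q.map (algebraMap R R') := by
        intro a ha
        obtain ⟨r, s, rfl⟩ := IsLocalization.exists_mk'_eq p.primeCompl a
        have h1 : algebraMap R R' r ∈ ann R' (f m) := by
          have : algebraMap R R' r = algebraMap R R' s * IsLocalization.mk' R' r s := by
            rw [mul_comm, IsLocalization.mk'_spec]
          rw [this]
          exact Ideal.mul_mem_left _ _ ha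
        obtain ⟨t, ht, htr⟩ := (algebraMap_mem_ann_iff p f m r).1 h1
        have htrq : t * r ∈ q := hle htr
        have hrq : r ∈ q := (hq.mem_or_mem htrq).resolve_left (fun htq => ht (hqp htq))
        rw [IsLocalization.mk'_mem_map_algebraMap_iff p.primeCompl]
        exact ⟨1, p.primeCompl.one_mem, by simpa using hrq⟩
      have h2 : maximalIdeal R' ≤ q.map (algebraMap R R') := by
        rw [← h]
        exact hQ.radical_le_iff.2 hann
      have := Ideal.comap_mono (f := algebraMap R R') h2
      rwa [hcomap, hQc] at this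
  · intro hp
    have hfm : f m ≠ 0 := by
      intro h0
      obtain ⟨t, ht, htm⟩ := (map_eq_zero_iff_exists p f m).1 h0
      exact ht (hp.1.2 (mem_ann.2 htm))
    apply le_antisymm
    · exact (IsLocalRing.maximalIdeal.isMaximal R').isPrime.radical_le_iff.2
        (IsLocalRing.le_maximalIdeal (ann_ne_top hfm))
    · rw [Ideal.radical_eq_sInf]
      refine le_sInf ?_
      rintro Q ⟨hQle, hQ⟩
      have hqp : Q.comap (algebraMap R R') ≤ p := by
        rw [← hcomap]
        exact Ideal.comap_mono (IsLocalRing.le_maximalIdeal hQ.ne_top)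
      have hannq : ann R m ≤ Q.comap (algebraMap R R') := by
        intro r hr
        rw [Ideal.mem_comap]
        apply hQle
        rw [algebraMap_mem_ann_iff p f]
        exact ⟨1, fun h1 => (Ideal.IsPrime.ne_top ‹p.IsPrime›) ((Ideal.eq_top_iff_one _).2 h1),
          by simpa using hr⟩
      have hpq : p ≤ Q.comap (algebraMap R R') := hp.2 ⟨hQ.comap _, hannq⟩ hqp
      have : p.map (algebraMap R R') ≤ Q := Ideal.map_le_iff_le_comap.2 hpq
      rwa [IsLocalization.AtPrime.map_eq_maximalIdeal p R'] at this

end loc

section comap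

variable {A B : Type*} [CommRing A] [CommRing B] (φ : A →+* B)
  {M : Type*} [AddCommGroup M] [Module A M] [Module B M]
  (hφ : ∀ (a : A) (m : M), a • m = φ a • m)

include hφ in
lemma ann_comap (m : M) : (ann B m).comap φ = ann A m := by
  ext a
  rw [Ideal.mem_comap, mem_ann, mem_ann, hφ]

include hφ in
/-- Stacks 05C3: a minimal prime over `ann_A m` is the contraction of a minimal prime over
`ann_B m`. -/
theorem exists_minimalPrimes_ann_comap (m : M) (p : Ideal A)
    (hp : p ∈ (ann A m).minimalPrimes) :
    ∃ q : Ideal B, q ∈ (ann B m).minimalPrimes ∧ q.comap φ = p := by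
  rw [← ann_comap φ hφ m] at hp
  exact Ideal.exists_minimalPrimes_comap_eq φ p hp

end comap

end Groth.Agent.Lib.Helper18.WeakAss
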