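import Mathlib.RingTheory.LocalRing.Module
import Mathlib.RingTheory.LocalRing.ResidueField.Basic
import Mathlib.RingTheory.Flat.FaithfullyFlat.Basic

/-!
# Base change of finite modules along local homomorphisms (helper18)

Namespace `Groth.Agent.Lib.Helper18`.

* `subsingleton_of_subsingleton_tensorProduct_of_isLocalHom` : for a local homomorphism of local
  rings `R → R'` and a finite `R`-module `M`: `R' ⊗[R] M = 0 → M = 0` (Nakayama).
* `subsingleton_tensorProduct_iff_of_isLocalHom`.
-/

open TensorProduct IsLocalRing

namespace Groth.Agent.Lib.Helper18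

variable {R R' M : Type*} [CommRing R] [CommRing R'] [IsLocalRing R] [IsLocalRing R']
  [Algebra R R'] [IsLocalHom (algebraMap R R')] [AddCommGroup M] [Module R M] [Module.Finite R M]

theorem subsingleton_of_subsingleton_tensorProduct_of_isLocalHom
    (h : Subsingleton (R' ⊗[R] M)) : Subsingleton M := by
  rw [← IsLocalRing.subsingleton_tensorProduct (R := R)]
  -- `k' ⊗[R] M` is trivial
  have h1 : Subsingleton (ResidueField R' ⊗[R'] (R' ⊗[R] M)) := inferInstance
  have h2 : Subsingleton (ResidueField R' ⊗[R] M) :=
    (TensorProduct.AlgebraTensorModule.cancelBaseChange R R' (ResidueField R') (ResidueField R')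
      M).symm.toEquiv.subsingleton
  have h3 : Subsingleton (ResidueField R' ⊗[ResidueField R] (ResidueField R ⊗[R] M)) :=
    (TensorProduct.AlgebraTensorModule.cancelBaseChange R (ResidueField R) (ResidueField R')
      (ResidueField R') M).toEquiv.subsingleton
  exact (Module.FaithfullyFlat.subsingleton_tensorProduct_iff_right (ResidueField R)
    (ResidueField R')).1 h3

theorem subsingleton_tensorProduct_iff_of_isLocalHom :
    Subsingleton (R' ⊗[R] M) ↔ Subsingleton M :=
  ⟨subsingleton_of_subsingleton_tensorProduct_of_isLocalHom, fun _ => inferInstance⟩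

end Groth.Agent.Lib.Helper18
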