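import Groth.Prelude.Def_FSRel
import Mathlib.RingTheory.Kaehler.Basic
import Mathlib.Algebra.TrivSqZeroExt.Ideal
import Mathlib.RingTheory.Derivation.ToSquareZero

/-!
# Relative formal smoothness and retractions of `C ⊗[B] Ω[B⁄A] → Ω[C⁄A]`  (helper18)

For ring maps `A → B → C`: the canonical map `C ⊗[B] Ω[B⁄A] → Ω[C⁄A]` has a `C`-linear retraction
iff `C` is formally smooth over `B` relative to `A` (square-zero form, `EGA41.IsFormallySmoothRel`).
-/

set_option autoImplicit false
set_option linter.unusedSectionVars false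
set_option linter.style.haveILetI false
universe u

namespace Groth.Agent.Lib.Helper18.FSRel
open TensorProduct

section
variable (A B C : Type u) [CommRing A] [CommRing B]
    [CommRing C] [Algebra A B] [Algebra B C] [Algebra A C] [IsScalarTower A B C]

/-- The twisted ring map `b ↦ (b, 1 ⊗ d b)`. -/
noncomputable def toTsze : B →+* TrivSqZeroExt C (C ⊗[B] Ω[B⁄A]) where
  toFun b := TrivSqZeroExt.inl (algebraMap B C b) +
    TrivSqZeroExt.inr ((1 : C) ⊗ₜ[B] KaehlerDifferential.D A B b)
  map_one' := by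
    apply TrivSqZeroExt.ext
    · simp
    · simp
  map_mul' x y := by
    apply TrivSqZeroExt.ext
    · simp
    · simp [tmul_add, add_comm]
  map_zero' := by
    apply TrivSqZeroExt.ext
    · simp
    · simp
  map_add' x y := by
    apply TrivSqZeroExt.ext
    · simp
    · simp [tmul_add]

@[simp] theorem fst_toTsze (b : B) : (toTsze A B C b).fst = algebraMap B C b := by
  simp [toTsze]

@[simp] theorem snd_toTsze (b : B) :
    (toTsze A B C b).snd = (1 : C) ⊗ₜ[B] KaehlerDifferential.D A B b := by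
  simp [toTsze]

/-- The trivial square-zero extension of `C` by `C ⊗[B] Ω[B⁄A]`, as a type synonym, so that
it can carry a twisted `B`-algebra structure. -/
def Ext : Type u := TrivSqZeroExt C (C ⊗[B] Ω[B⁄A])

noncomputable instance : CommRing (Ext A B C) :=
  inferInstanceAs (CommRing (TrivSqZeroExt C (C ⊗[B] Ω[B⁄A])))

noncomputable instance : Algebra A (Ext A B C) :=
  inferInstanceAs (Algebra A (TrivSqZeroExt C (C ⊗[B] Ω[B⁄A])))

noncomputable instance : Algebra B (Ext A B C) :=
  RingHom.toAlgebra (toTsze A B C)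

theorem algebraMap_B_Ext (b : B) : algebraMap B (Ext A B C) b = toTsze A B C b := rfl

theorem algebraMap_A_Ext (a : A) :
    algebraMap A (Ext A B C) a = (TrivSqZeroExt.inl (algebraMap A C a) :
      TrivSqZeroExt C (C ⊗[B] Ω[B⁄A])) := rfl

instance : IsScalarTower A B (Ext A B C) := by
  apply IsScalarTower.of_algebraMap_eq
  intro a
  rw [algebraMap_B_Ext, algebraMap_A_Ext]
  apply TrivSqZeroExt.ext
  · simp [← IsScalarTower.algebraMap_apply]
  · simp

/-- The kernel ideal, in the synonym. -/
noncomputable def J : Ideal (Ext A B C) := TrivSqZeroExt.kerIdeal C (C ⊗[B] Ω[B⁄A])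

theorem J_sq : J A B C ^ 2 = ⊥ := TrivSqZeroExt.kerIdeal_sq C (C ⊗[B] Ω[B⁄A])

theorem mem_J_iff (x : Ext A B C) :
    x ∈ J A B C ↔ TrivSqZeroExt.fst (x : TrivSqZeroExt C (C ⊗[B] Ω[B⁄A])) = 0 := by
  exact (RingHom.mem_ker (f := (TrivSqZeroExt.fstHom C C (C ⊗[B] Ω[B⁄A]))) (r := x))

/-- the `A`-algebra lift -/
noncomputable def uLift : C →ₐ[A] Ext A B C :=
  TrivSqZeroExt.inlAlgHom A C (C ⊗[B] Ω[B⁄A])

/-- the `B`-algebra map to the quotient -/
noncomputable def u0 : C →ₐ[B] Ext A B C ⧸ J A B C :=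
  { (Ideal.Quotient.mk (J A B C)).comp (uLift A B C).toRingHom with
    commutes' := by
      intro b
      show Ideal.Quotient.mk (J A B C) (uLift A B C (algebraMap B C b)) =
        Ideal.Quotient.mk (J A B C) (algebraMap B (Ext A B C) b)
      rw [Ideal.Quotient.eq, mem_J_iff, algebraMap_B_Ext]
      show TrivSqZeroExt.fst ((TrivSqZeroExt.inl (algebraMap B C b) : TrivSqZeroExt C (C ⊗[B] Ω[B⁄A]))
        - toTsze A B C b) = 0
      simp }

theorem u0_apply (c : C) : u0 A B C c = Ideal.Quotient.mk (J A B C) (uLift A B C c) := rfl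

theorem exists_retraction (h : EGA41.IsFormallySmoothRel A B C) :
    ∃ l : Ω[C⁄A] →ₗ[C] C ⊗[B] Ω[B⁄A], l ∘ₗ KaehlerDifferential.mapBaseChange A B C = LinearMap.id := by
  obtain ⟨v, hv⟩ := h (Ext A B C) (J A B C) (J_sq A B C) (u0 A B C) ⟨uLift A B C, by ext c; rfl⟩
  -- `v c = (c, D c)`
  have hfst : ∀ c : C, TrivSqZeroExt.fst (v c : TrivSqZeroExt C (C ⊗[B] Ω[B⁄A])) = c := by
    intro c
    have h1 : Ideal.Quotient.mk (J A B C) (v c) = Ideal.Quotient.mk (J A B C) (uLift A B C c) := by
      have := AlgHom.congr_fun hv c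
      simpa [u0_apply] using this
    rw [Ideal.Quotient.eq, mem_J_iff] at h1
    have h2 : TrivSqZeroExt.fst (v c : TrivSqZeroExt C (C ⊗[B] Ω[B⁄A])) -
        TrivSqZeroExt.fst (uLift A B C c : TrivSqZeroExt C (C ⊗[B] Ω[B⁄A])) = 0 := h1
    rw [sub_eq_zero] at h2
    rw [h2]
    rfl
  let vA : C →ₐ[A] Ext A B C := v.restrictScalars A
  let D : Derivation A C (C ⊗[B] Ω[B⁄A]) :=
    { toFun := fun c => TrivSqZeroExt.snd (v c : TrivSqZeroExt C (C ⊗[B] Ω[B⁄A]))
      map_add' := fun x y => by
        rw [map_add]; rfl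
      map_smul' := fun a x => by
        have : v (a • x) = a • v x := map_smul vA a x
        rw [this]; rfl
      map_one_eq_zero' := by
        show TrivSqZeroExt.snd (v 1 : TrivSqZeroExt C (C ⊗[B] Ω[B⁄A])) = 0
        rw [map_one]; rfl
      leibniz' := fun x y => by
        show TrivSqZeroExt.snd (v (x * y) : TrivSqZeroExt C (C ⊗[B] Ω[B⁄A])) = _
        rw [map_mul]
        have : TrivSqZeroExt.snd ((v x : TrivSqZeroExt C (C ⊗[B] Ω[B⁄A])) * v y) = _ :=
          TrivSqZeroExt.snd_mul _ _
        refine this.trans ?_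
        rw [hfst, hfst]
        simp [add_comm] }
  have hD : ∀ c, D c = TrivSqZeroExt.snd (v c : TrivSqZeroExt C (C ⊗[B] Ω[B⁄A])) := fun _ => rfl
  refine ⟨D.liftKaehlerDifferential, ?_⟩
  have key : ∀ ω : Ω[B⁄A], D.liftKaehlerDifferential (KaehlerDifferential.map A A B C ω) =
      (1 : C) ⊗ₜ[B] ω := by
    intro ω
    have hω : ω ∈ Submodule.span B (Set.range (KaehlerDifferential.D A B)) := by
      rw [KaehlerDifferential.span_range_derivation]; trivial
    induction hω using Submodule.span_induction with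
    | mem x hx =>
      obtain ⟨b, rfl⟩ := hx
      rw [KaehlerDifferential.map_D, Derivation.liftKaehlerDifferential_comp_D, hD,
        AlgHom.commutes, algebraMap_B_Ext, snd_toTsze]
    | zero => simp
    | add x y _ _ hx hy => simp [hx, hy, tmul_add]
    | smul b x _ hx =>
      rw [map_smul, ← algebraMap_smul C b, map_smul, hx, algebraMap_smul, tmul_smul]
  apply LinearMap.ext
  intro x
  induction x with
  | zero => simp
  | tmul c ω =>
    simp only [LinearMap.comp_apply, KaehlerDifferential.mapBaseChange_tmul, map_smul, key,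
      LinearMap.id_apply, smul_tmul', smul_eq_mul, mul_one]
  | add x y hx hy =>
    simp only [map_add, hx, hy]


theorem isFormallySmoothRel_of_retraction
    (l : Ω[C⁄A] →ₗ[C] C ⊗[B] Ω[B⁄A])
    (hl : l ∘ₗ KaehlerDifferential.mapBaseChange A B C = LinearMap.id) :
    EGA41.IsFormallySmoothRel A B C := by
  intro C' _ _ _ _ J hJ u₀ ⟨u, hu⟩
  letI : Algebra C C' := u.toRingHom.toAlgebra
  have halg : ∀ c : C, algebraMap C C' c = u c := fun _ => rfl
  haveI : IsScalarTower A C C' := IsScalarTower.of_algebraMap_eq (fun a => (u.commutes a).symm)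
  have hu' : ∀ c, Ideal.Quotient.mk J (u c) = u₀ c := fun c => AlgHom.congr_fun hu c
  have e : (Ideal.Quotient.mkₐ A J).comp (u.comp (IsScalarTower.toAlgHom A B C)) =
      IsScalarTower.toAlgHom A B (C' ⧸ J) := by
    ext b
    show Ideal.Quotient.mk J (u (algebraMap B C b)) = algebraMap B (C' ⧸ J) b
    rw [hu', u₀.commutes]
  let d : Derivation A B J := derivationToSquareZeroOfLift J hJ _ e
  have hd : ∀ b, (d b : C') = u (algebraMap B C b) - algebraMap B C' b := fun b => rfl
  haveI : IsScalarTower B C J := by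
    constructor
    intro b c j
    apply Subtype.ext
    simp only [Submodule.coe_smul_of_tower]
    rw [Algebra.smul_def, Algebra.smul_def (R := B), Algebra.smul_def (R := C)]
    rw [halg, halg, Algebra.smul_def, map_mul, ← sub_eq_zero]
    have h1 : (u (algebraMap B C b) - algebraMap B C' b) * (u c * (j : C')) ∈ J ^ 2 := by
      rw [pow_two]
      exact Ideal.mul_mem_mul (d b).2 (J.mul_mem_left _ j.2)
    rw [hJ, Ideal.mem_bot] at h1
    rw [← h1]; ring
  let ψ : C ⊗[B] Ω[B⁄A] →ₗ[C] J := (d.liftKaehlerDifferential).liftBaseChange C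
  let D : Derivation A C J := (ψ ∘ₗ l).compDer (KaehlerDifferential.D A C)
  have hD : ∀ b : B, D (algebraMap B C b) = d b := by
    intro b
    show ψ (l (KaehlerDifferential.D A C (algebraMap B C b))) = d b
    have h1 : KaehlerDifferential.D A C (algebraMap B C b) =
        KaehlerDifferential.mapBaseChange A B C ((1 : C) ⊗ₜ[B] KaehlerDifferential.D A B b) := by
      simp
    rw [h1]
    have h2 := LinearMap.congr_fun hl ((1 : C) ⊗ₜ[B] KaehlerDifferential.D A B b)
    rw [LinearMap.comp_apply, LinearMap.id_apply] at h2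
    rw [h2]
    simp [ψ]
  let v' : C →ₐ[A] C' := liftOfDerivationToSquareZero J hJ (-D)
  have hv' : ∀ c, v' c = -(D c : C') + u c := fun c => rfl
  let v : C →ₐ[B] C' :=
    { v'.toRingHom with
      commutes' := by
        intro b
        show v' (algebraMap B C b) = algebraMap B C' b
        rw [hv', hD, hd]
        ring }
  refine ⟨v, ?_⟩
  ext c
  show Ideal.Quotient.mk J (v' c) = u₀ c
  rw [hv', map_add, map_neg, Ideal.Quotient.eq_zero_iff_mem.mpr (D c).2, neg_zero, zero_add, hu']


end

end Groth.Agent.Lib.Helper18.FSRel
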