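import Groth.Prelude.Def_CAlg
import Mathlib.RingTheory.Ideal.AssociatedPrime.Finiteness
import Mathlib.RingTheory.Regular.RegularSequence
import Mathlib.RingTheory.LocalRing.MaximalIdeal.Basic

/-!
# Depth at least one (helper18)

Namespace `Groth.Agent.Lib.Helper18`.

* `one_le_depth_iff_exists_regular` : for a local ring `R`,
  `1 ≤ LocCoh.depth R R ↔ ∃ r ∈ 𝔪, IsSMulRegular R r`.
* `exists_regular_mem_maximalIdeal_of_not_isAssociatedPrime` : Noetherian local `R` with
  `𝔪 ∉ Ass R` has a regular element in `𝔪`.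
* `not_isAssociatedPrime_of_regular_mem` : converse.
-/

open IsLocalRing RingTheory.Sequence

namespace Groth.Agent.Lib.Helper18

universe u

variable (R : Type u) [CommRing R] [IsLocalRing R]

theorem one_le_depth_iff_exists_regular :
    (1 : ℕ∞) ≤ LocCoh.depth R R ↔ ∃ r ∈ maximalIdeal R, IsSMulRegular R r := by
  have hne : ¬ (maximalIdeal R • (⊤ : Submodule R R) = ⊤) := by
    rw [smul_eq_mul, Ideal.mul_top]
    exact (maximalIdeal.isMaximal R).ne_top
  unfold LocCoh.depth LocCoh.idealDepth
  rw [if_neg hne]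
  constructor
  · intro h
    by_contra hcon
    push Not at hcon
    have hle : (⨆ (rs : List R) (_ : IsWeaklyRegular R rs ∧ ∀ r ∈ rs, r ∈ maximalIdeal R),
        (rs.length : ℕ∞)) ≤ 0 := by
      refine iSup₂_le ?_
      rintro rs ⟨hreg, hmem⟩
      cases rs with
      | nil => simp
      | cons r rs' =>
        exfalso
        rw [isWeaklyRegular_cons_iff] at hreg
        exact hcon r (hmem r (List.mem_cons_self)) hreg.1
    have : (1 : ℕ∞) ≤ 0 := h.trans hle
    simp at this
  · rintro ⟨r, hr, hreg⟩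
    have hw : IsWeaklyRegular R [r] ∧ ∀ r' ∈ [r], r' ∈ maximalIdeal R := by
      refine ⟨(isWeaklyRegular_singleton_iff R r).2 hreg, ?_⟩
      intro r' hr'
      rw [List.mem_singleton] at hr'
      rw [hr']; exact hr
    have := le_iSup₂ (f := fun (rs : List R)
      (_ : IsWeaklyRegular R rs ∧ ∀ r ∈ rs, r ∈ maximalIdeal R) => (rs.length : ℕ∞)) [r] hw
    simpa using this

variable {R}

theorem not_isAssociatedPrime_of_regular_mem {r : R} (hr : r ∈ maximalIdeal R)
    (hreg : IsSMulRegular R r) : ¬ IsAssociatedPrime (maximalIdeal R) R := by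
  rintro ⟨-, g, hg⟩
  rw [hg] at hr
  obtain ⟨n, hn⟩ := hr
  rw [Submodule.mem_colon_singleton, Submodule.mem_bot] at hn
  have hg0 : g = 0 := by
    apply (hreg.pow n)
    change r ^ n • g = r ^ n • 0
    rw [hn, smul_zero]
  have htop : (Submodule.colon (⊥ : Submodule R R) {g}) = ⊤ := by
    rw [hg0]; ext x; simp [Submodule.mem_colon_singleton]
  rw [htop, Ideal.radical_top] at hg
  exact (maximalIdeal.isMaximal R).ne_top hg

theorem exists_regular_mem_maximalIdeal_of_not_isAssociatedPrime [IsNoetherianRing R]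
    (h : ¬ IsAssociatedPrime (maximalIdeal R) R) : ∃ r ∈ maximalIdeal R, IsSMulRegular R r := by
  classical
  by_contra hcon
  push Not at hcon
  apply h
  have hfin : (associatedPrimes R R).Finite := associatedPrimes.finite R R
  have hsub : (maximalIdeal R : Set R) ⊆ ⋃ p ∈ associatedPrimes R R, (p : Set R) := by
    rw [biUnion_associatedPrimes_eq_compl_nonZeroDivisors]
    intro r hr hnz
    apply hcon r hr
    intro a b hab
    have h1 : (a - b) * r = 0 := by
      have : r • a = r • b := hab
      rw [smul_eq_mul, smul_eq_mul] at this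
      rw [sub_mul, mul_comm a, mul_comm b, this, sub_self]
    exact sub_eq_zero.1 ((mem_nonZeroDivisors_iff_right.1 hnz) _ h1)
  have hsub' : (maximalIdeal R : Set R) ⊆ ⋃ p ∈ (hfin.toFinset : Set (Ideal R)), (p : Set R) := by
    intro r hr
    obtain ⟨p, hp, hrp⟩ := Set.mem_iUnion₂.1 (hsub hr)
    exact Set.mem_iUnion₂.2 ⟨p, hfin.mem_toFinset.2 hp, hrp⟩
  rw [Ideal.subset_union_prime (f := fun p : Ideal R => p) (maximalIdeal R) (maximalIdeal R)
    (fun p hp _ _ => (hfin.mem_toFinset.1 hp).isPrime)] at hsub'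
  obtain ⟨p, hp, hle⟩ := hsub'
  have hpass : IsAssociatedPrime p R := hfin.mem_toFinset.1 hp
  have : maximalIdeal R = p := (maximalIdeal.isMaximal R).eq_of_le hpass.isPrime.ne_top hle
  rw [this]
  exact hpass

end Groth.Agent.Lib.Helper18
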