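import Groth.Agent.Lib.QCoh.Helper18_HartogsDepth
import Groth.Agent.Lib.Helper49.Serre

/-!
# Depth-two bijectivity criterion (helper18)

Namespace `Groth.Agent.Lib.Helper18.DepthTwoAlg`.

* `exists_regular_pair_localized` : `depth M_p ≥ 2` gives `a, b ∈ p` forming a weakly regular pair
  on `M_p` (as an `R`-module, element-wise form).
* `bijective_of_localization_depth_two` : `φ : M → N`, `M` finite over Noetherian `R`; if for every
  prime `p` either `φ_p` is bijective or (`depth M_p ≥ 2` and `p ∉ Ass N`), then `φ` is bijective.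
-/

set_option autoImplicit false
universe u

open IsLocalRing

namespace Groth.Agent.Lib.Helper18.DepthTwoAlg

open Groth.Agent.Lib.QCoh.Hartogs

variable {R : Type u} [CommRing R] [IsNoetherianRing R]

omit [IsNoetherianRing R] in
/-- From `depth M_p ≥ 2`: a weakly regular pair `a, b ∈ p` on `M_p`. -/
theorem exists_regular_pair_localized (p : Ideal R) [p.IsPrime] (M : Type u) [AddCommGroup M]
    [Module R M] [Module.Finite R M]
    (hd : (2 : ℕ∞) ≤ LocCoh.depth (Localization.AtPrime p) (LocalizedModule p.primeCompl M)) :
    ∃ a ∈ p, ∃ b ∈ p, (∀ μ : LocalizedModule p.primeCompl M, a • μ = 0 → μ = 0) ∧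
      (∀ μ μ' : LocalizedModule p.primeCompl M, b • μ = a • μ' →
        ∃ μ'' : LocalizedModule p.primeCompl M, μ = a • μ'') := by
  obtain ⟨x, hx, y, hy, h1, h2⟩ := exists_regular_pair_of_two_le_idealDepth
    (maximalIdeal (Localization.AtPrime p)) (LocalizedModule p.primeCompl M) hd
  obtain ⟨a, s, rfl⟩ := IsLocalization.exists_mk'_eq p.primeCompl x
  obtain ⟨b, s', rfl⟩ := IsLocalization.exists_mk'_eq p.primeCompl y
  have ha : a ∈ p := (IsLocalization.AtPrime.mk'_mem_maximal_iff (Localization.AtPrime p) p a s).1 hx
  have hb : b ∈ p :=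
    (IsLocalization.AtPrime.mk'_mem_maximal_iff (Localization.AtPrime p) p b s').1 hy
  obtain ⟨u, hu⟩ : IsUnit (algebraMap R (Localization.AtPrime p) s) :=
    IsLocalization.map_units _ s
  obtain ⟨u', hu'⟩ : IsUnit (algebraMap R (Localization.AtPrime p) s') :=
    IsLocalization.map_units _ s'
  have hα : algebraMap R (Localization.AtPrime p) a =
      (u : Localization.AtPrime p) * IsLocalization.mk' (Localization.AtPrime p) a s := by
    rw [hu, IsLocalization.mk'_spec']
  have hβ : algebraMap R (Localization.AtPrime p) b =
      (u' : Localization.AtPrime p) * IsLocalization.mk' (Localization.AtPrime p) b s' := by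
    rw [hu', IsLocalization.mk'_spec']
  refine ⟨a, ha, b, hb, ?_, ?_⟩
  · intro μ hμ
    rw [← algebraMap_smul (Localization.AtPrime p) a, hα, mul_comm, mul_smul] at hμ
    have := h1 _ hμ
    exact (u.isUnit.smul_eq_zero).1 this
  · intro μ μ' hμ
    rw [← algebraMap_smul (Localization.AtPrime p) a, ← algebraMap_smul (Localization.AtPrime p) b,
      hα, hβ, mul_comm, mul_smul, mul_comm, mul_smul] at hμ
    obtain ⟨μ₂, hμ₂⟩ := h2 _ _ hμ
    refine ⟨((↑u⁻¹ : Localization.AtPrime p) * (↑u'⁻¹ : Localization.AtPrime p)) • μ₂, ?_⟩
    rw [← algebraMap_smul (Localization.AtPrime p) a, hα, smul_smul]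
    have e1 : (u : Localization.AtPrime p) * IsLocalization.mk' (Localization.AtPrime p) a s *
        ((↑u⁻¹ : Localization.AtPrime p) * (↑u'⁻¹ : Localization.AtPrime p)) =
        (↑u'⁻¹ : Localization.AtPrime p) * IsLocalization.mk' (Localization.AtPrime p) a s := by
      have : (u : Localization.AtPrime p) * (↑u⁻¹ : Localization.AtPrime p) = 1 := u.mul_inv
      calc _ = ((u : Localization.AtPrime p) * (↑u⁻¹ : Localization.AtPrime p)) *
            ((↑u'⁻¹ : Localization.AtPrime p) *
              IsLocalization.mk' (Localization.AtPrime p) a s) := by ring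
        _ = _ := by rw [this, one_mul]
    rw [e1, mul_smul, ← hμ₂, smul_smul, Units.inv_mul, one_smul]


open Groth.Agent.Lib.Helper49.Serre in
/-- **Depth-two bijectivity criterion.** -/
theorem bijective_of_localization_depth_two {M N : Type u} [AddCommGroup M]
    [Module R M] [Module.Finite R M] [AddCommGroup N] [Module R N] (φ : M →ₗ[R] N)
    (h : ∀ (p : Ideal R) [p.IsPrime],
      Function.Bijective (LocalizedModule.map p.primeCompl φ) ∨
        ((2 : ℕ∞) ≤ LocCoh.depth (Localization.AtPrime p) (LocalizedModule p.primeCompl M) ∧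
          p ∉ associatedPrimes R N)) :
    Function.Bijective φ := by
  classical
  -- injectivity
  have hinj : Function.Injective φ := by
    rw [injective_iff_map_eq_zero]
    by_contra hcon
    push Not at hcon
    obtain ⟨m0, hm0, hm0'⟩ := hcon
    have hnt : Nontrivial (LinearMap.ker φ) :=
      ⟨⟨⟨m0, hm0⟩, 0, fun h => hm0' (congrArg Subtype.val h)⟩⟩
    obtain ⟨p, hp⟩ := associatedPrimes.nonempty R (LinearMap.ker φ)
    obtain ⟨hprime, k, hk⟩ := isAssociatedPrime_iff.1 hp
    have hpM : p ∈ associatedPrimes R M :=
      associatedPrimes.subset_of_injective (f := (LinearMap.ker φ).subtype)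
        (Submodule.injective_subtype _) hp
    rcases h p with hb | ⟨hd, -⟩
    · have e1 : LocalizedModule.map p.primeCompl φ (LocalizedModule.mk (k : M) 1) = 0 := by
        rw [LocalizedModule.map_mk, k.2, LocalizedModule.zero_mk]
      have e2 : LocalizedModule.mk (k : M) (1 : p.primeCompl) = 0 :=
        hb.1 (e1.trans (map_zero _).symm)
      rw [← LocalizedModule.zero_mk (1 : p.primeCompl), LocalizedModule.mk_eq] at e2
      obtain ⟨u, hu⟩ := e2
      have hmemk : ∀ a : R, a ∈ p ↔ a • k = 0 := by
        intro a
        rw [hk, Submodule.mem_colon_singleton, Submodule.mem_bot]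
      have hup : (u : R) ∈ p := by
        rw [hmemk]
        apply Subtype.ext
        simp only [Submonoid.smul_def, one_smul, smul_zero] at hu
        simpa using hu
      exact u.2 hup
    · rw [(depth_localizedModule_eq_zero_iff M p).2 hpM] at hd
      simp at hd
  refine ⟨hinj, ?_⟩
  -- surjectivity
  by_contra hcon
  have hnt : Nontrivial (N ⧸ LinearMap.range φ) := by
    rw [Submodule.Quotient.nontrivial_iff]
    intro htop
    exact hcon (LinearMap.range_eq_top.1 htop)
  obtain ⟨p, hp⟩ := associatedPrimes.nonempty R (N ⧸ LinearMap.range φ)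
  obtain ⟨hprime, q, hq⟩ := isAssociatedPrime_iff.1 hp
  obtain ⟨n, rfl⟩ := Submodule.Quotient.mk_surjective _ q
  have hmem : ∀ a : R, a ∈ p ↔ a • n ∈ LinearMap.range φ := by
    intro a
    rw [hq, Submodule.mem_colon_singleton, ← Submodule.Quotient.mk_smul, Submodule.mem_bot,
      Submodule.Quotient.mk_eq_zero]
  rcases h p with hb | ⟨hd, hass⟩
  · obtain ⟨μ, hμ⟩ := hb.2 (LocalizedModule.mk n 1)
    induction μ using LocalizedModule.induction_on with
    | h m s =>
      rw [LocalizedModule.map_mk, LocalizedModule.mk_eq] at hμ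
      obtain ⟨u, hu⟩ := hμ
      have h1 : ((u : R) * (s : R)) ∈ p := by
        rw [hmem]
        refine ⟨(u : R) • m, ?_⟩
        rw [map_smul, mul_smul]
        simp only [Submonoid.smul_def, one_smul] at hu
        exact hu
      exact (u * s).2 h1
  · apply hass
    obtain ⟨a, ha, b, hb, R1, R2⟩ := exists_regular_pair_localized p M hd
    obtain ⟨ma, hma⟩ := (hmem a).1 ha
    obtain ⟨mb, hmb⟩ := (hmem b).1 hb
    have e1 : b • ma = a • mb := by
      apply hinj
      rw [map_smul, map_smul, hma, hmb, smul_comm]
    obtain ⟨μ, hμ⟩ := R2 (LocalizedModule.mk ma 1) (LocalizedModule.mk mb 1) (by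
      rw [LocalizedModule.smul'_mk, LocalizedModule.smul'_mk, e1])
    induction μ using LocalizedModule.induction_on with
    | h m' s =>
      rw [LocalizedModule.smul'_mk, LocalizedModule.mk_eq] at hμ
      obtain ⟨t, ht⟩ := hμ
      -- `ht : t • s • ma = t • 1 • a • m'`
      have ht' : ((t : R) * (s : R)) • ma = a • ((t : R) • m') := by
        have : (t : R) • (s : R) • ma = (t : R) • a • m' := by
          simp only [Submonoid.smul_def, one_smul] at ht
          exact ht
        rw [mul_smul, this, smul_comm]
      set n' : N := ((t : R) * (s : R)) • n - φ ((t : R) • m') with hn'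
      have hn'a : a • n' = 0 := by
        rw [hn', smul_sub, smul_comm a, ← hma, ← map_smul, ← map_smul, ← map_sub, ht', sub_self,
          map_zero]
      have hn'notin : ∀ v : R, v ∉ p → v • n' ∉ LinearMap.range φ := by
        intro v hv hvm
        have : (v * ((t : R) * (s : R))) • n ∈ LinearMap.range φ := by
          have e : (v * ((t : R) * (s : R))) • n = v • n' + φ (v • (t : R) • m') := by
            rw [hn', smul_sub, map_smul, map_smul, map_smul, mul_smul]; abel
          rw [e]
          exact Submodule.add_mem _ hvm ⟨_, rfl⟩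
        rw [← hmem] at this
        rcases hprime.mem_or_mem this with h | h
        · exact hv h
        · exact (t * s).2 h
      have key : ∀ c ∈ p, ∃ v : R, v ∉ p ∧ v • c • n' = 0 := by
        intro c hc
        have hcn : c • n' ∈ LinearMap.range φ := by
          rw [hn', smul_sub, smul_comm c]
          exact Submodule.sub_mem _ (Submodule.smul_mem _ _ ((hmem c).1 hc))
            ⟨c • (t : R) • m', by rw [map_smul]⟩
        obtain ⟨mc, hmc⟩ := hcn
        have h0 : a • mc = 0 := by
          apply hinj
          rw [map_smul, hmc, smul_comm, hn'a, smul_zero, map_zero]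
        have h1 : LocalizedModule.mk mc (1 : p.primeCompl) = 0 := by
          apply R1
          rw [LocalizedModule.smul'_mk, h0, LocalizedModule.zero_mk]
        rw [← LocalizedModule.zero_mk (1 : p.primeCompl), LocalizedModule.mk_eq] at h1
        obtain ⟨v, hv⟩ := h1
        refine ⟨v, v.2, ?_⟩
        rw [← hmc, ← map_smul]
        have : (v : R) • mc = 0 := by
          simp only [Submonoid.smul_def, one_smul, smul_zero] at hv
          exact hv
        rw [this, map_zero]
      -- uniform `v`
      obtain ⟨gens, hgens⟩ := (isNoetherianRing_iff_ideal_fg R).1 inferInstance p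
      choose! vf hvf using key
      set v : R := ∏ g ∈ gens, vf g with hv
      have hgp : ∀ g ∈ gens, g ∈ p := fun g hg => hgens ▸ Ideal.subset_span hg
      have hvp : v ∉ p := by
        rw [hv]
        intro hmem'
        obtain ⟨g, hg, hgv⟩ := (hprime.prod_mem_iff).1 hmem'
        exact (hvf g (hgp g hg)).1 hgv
      have hvall : ∀ c ∈ p, v • c • n' = 0 := by
        intro c hc
        rw [← hgens] at hc
        induction hc using Submodule.span_induction with
        | mem g hg =>
          obtain ⟨w, hw⟩ := Finset.dvd_prod_of_mem vf hg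
          rw [hv, hw, mul_comm, mul_smul, (hvf g (hgp g hg)).2, smul_zero]
        | zero => simp
        | add x y _ _ hx hy => rw [add_smul, smul_add, hx, hy, add_zero]
        | smul r x _ hx => rw [smul_eq_mul, mul_smul, smul_comm v r, hx, smul_zero]
      refine isAssociatedPrime_iff.2 ⟨hprime, v • n', ?_⟩
      ext c
      rw [Submodule.mem_colon_singleton, Submodule.mem_bot]
      constructor
      · intro hc
        rw [smul_comm]
        exact hvall c hc
      · intro hc
        by_contra hcp
        apply hn'notin (c * v) (fun h => (hprime.mem_or_mem h).elim hcp hvp)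
        rw [mul_smul, hc]
        exact Submodule.zero_mem _

end Groth.Agent.Lib.Helper18.DepthTwoAlg
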