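import Mathlib.AlgebraicGeometry.ProjectiveSpectrum.Functor
import Mathlib.AlgebraicGeometry.Morphisms.Affine
import Mathlib.AlgebraicGeometry.Properties
import Mathlib.RingTheory.Noetherian.Nilpotent

/-!
# Basic helper lemmas on `Proj` (helper18)
-/

set_option autoImplicit false
universe u
open CategoryTheory CategoryTheory.Limits AlgebraicGeometry

namespace Groth.Agent.Lib.Helper18.ProjBasic

variable {R A : Type u} [CommRing R] [CommRing A] [Algebra R A]
  (𝒜 : ℕ → Submodule R A) [GradedAlgebra 𝒜]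

/-- Every point of `Proj` lies in some `D₊(f)` with `f` homogeneous of positive degree. -/
theorem exists_pos_homogeneous_mem_basicOpen (x : Proj 𝒜) :
    ∃ (i : ℕ) (_ : 0 < i) (f : A) (_ : f ∈ 𝒜 i), x ∈ Proj.basicOpen 𝒜 f := by
  by_contra h
  push Not at h
  apply x.not_irrelevant_le
  rw [HomogeneousIdeal.irrelevant_le]
  intro i hi f hf
  have := h i hi f hf
  rw [Proj.mem_basicOpen, not_not] at this
  exact this

theorem basicOpen_eq_bot_of_isNilpotent (f : A) (hf : IsNilpotent f) :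
    Proj.basicOpen 𝒜 f = ⊥ := by
  obtain ⟨n, hn⟩ := hf
  rw [eq_bot_iff]
  intro x hx
  rw [Proj.mem_basicOpen] at hx
  exfalso
  apply hx
  have h0 : f ^ n ∈ x.asHomogeneousIdeal.toIdeal := by rw [hn]; exact Ideal.zero_mem _
  exact x.isPrime.mem_of_pow_mem n h0

theorem isNilpotent_of_basicOpen_eq_bot {i : ℕ} (hi : 0 < i) (f : A) (hf : f ∈ 𝒜 i)
    (h : Proj.basicOpen 𝒜 f = ⊥) : IsNilpotent f := by
  by_contra hnil
  have hnt : Nontrivial (HomogeneousLocalization.Away 𝒜 f) := by
    rw [← not_subsingleton_iff_nontrivial]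
    intro hsub
    have h10 : (1 : HomogeneousLocalization.Away 𝒜 f) = 0 := Subsingleton.elim _ _
    have h10' : (1 : Localization.Away f) = 0 := by
      have := congrArg HomogeneousLocalization.val h10
      simpa using this
    have : Subsingleton (Localization.Away f) := subsingleton_of_zero_eq_one h10'.symm
    rw [IsLocalization.subsingleton_iff (M := Submonoid.powers f)] at this
    obtain ⟨n, hn⟩ := this
    exact hnil ⟨n, hn⟩
  obtain ⟨p⟩ : Nonempty (Spec (.of (HomogeneousLocalization.Away 𝒜 f))) :=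
    inferInstanceAs (Nonempty (PrimeSpectrum (HomogeneousLocalization.Away 𝒜 f)))
  have hp : (Proj.awayι 𝒜 f hf hi).base p ∈ (Proj.awayι 𝒜 f hf hi).opensRange := ⟨p, rfl⟩
  rw [Proj.opensRange_awayι, h] at hp
  exact hp

theorem away_isReduced_of_essentially_reduced
    (hred : ∀ f ∈ (HomogeneousIdeal.irrelevant 𝒜).toIdeal, IsNilpotent f → f = 0)
    {d : ℕ} (hd : 0 < d) (f : A) (hf : f ∈ 𝒜 d) :
    _root_.IsReduced (HomogeneousLocalization.Away 𝒜 f) := by
  constructor
  intro z hz
  obtain ⟨n, a, ha, rfl⟩ := HomogeneousLocalization.Away.mk_surjective 𝒜 hf z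
  obtain ⟨k, hk⟩ := hz
  have hk' := congrArg HomogeneousLocalization.val hk
  rw [HomogeneousLocalization.val_pow, HomogeneousLocalization.Away.val_mk,
    HomogeneousLocalization.val_zero, Localization.mk_pow, Localization.mk_eq_mk'_apply,
    IsLocalization.mk'_eq_zero_iff] at hk'
  obtain ⟨⟨_, m, rfl⟩, hm⟩ := hk'
  have hm' : f ^ m * a ^ k = 0 := hm
  have hfa : f * a = 0 := by
    apply hred
    · exact Ideal.mul_mem_right _ _ (HomogeneousIdeal.mem_irrelevant_of_mem 𝒜 hd hf)
    · refine ⟨m + k, ?_⟩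
      rw [mul_pow, pow_add, pow_add]
      calc f ^ m * f ^ k * (a ^ m * a ^ k) = (f ^ m * a ^ k) * (f ^ k * a ^ m) := by ring
        _ = 0 := by rw [hm', zero_mul]
  apply HomogeneousLocalization.val_injective
  rw [HomogeneousLocalization.Away.val_mk, HomogeneousLocalization.val_zero,
    Localization.mk_eq_mk'_apply, IsLocalization.mk'_eq_zero_iff]
  exact ⟨⟨f, 1, pow_one f⟩, hfa⟩

theorem proj_isReduced_of_essentially_reduced
    (hred : ∀ f ∈ (HomogeneousIdeal.irrelevant 𝒜).toIdeal, IsNilpotent f → f = 0) :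
    AlgebraicGeometry.IsReduced (Proj 𝒜) := by
  have : ∀ i, AlgebraicGeometry.IsReduced ((Proj.affineOpenCover 𝒜).openCover.X i) := by
    rintro ⟨⟨i, hpos⟩, ⟨f, hs'⟩⟩
    have hs : f ∈ 𝒜 i := hs'
    have := away_isReduced_of_essentially_reduced 𝒜 hred hpos f hs
    show AlgebraicGeometry.IsReduced (Spec (.of (HomogeneousLocalization.Away 𝒜 f)))
    infer_instance
  exact IsReduced.of_openCover _ (Proj.affineOpenCover 𝒜).openCover

/-- Basic opens `D₊(a)` with `a` homogeneous of positive degree form a basis. -/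
theorem exists_pos_homogeneous_basicOpen_le (x : Proj 𝒜) (U : (Proj 𝒜).Opens) (hx : x ∈ U) :
    ∃ (i : ℕ) (_ : 0 < i) (a : A) (_ : a ∈ 𝒜 i),
      x ∈ Proj.basicOpen 𝒜 a ∧ Proj.basicOpen 𝒜 a ≤ U := by
  obtain ⟨_, ⟨a, rfl⟩, hxa, haU⟩ :=
    TopologicalSpace.Opens.isBasis_iff_nbhd.mp (Proj.isBasis_basicOpen 𝒜) hx
  have hxa' := hxa
  rw [Proj.basicOpen_eq_iSup_proj, TopologicalSpace.Opens.mem_iSup] at hxa'
  obtain ⟨i, hi⟩ := hxa'
  obtain ⟨j, hj, s, hs, hxs⟩ := exists_pos_homogeneous_mem_basicOpen 𝒜 x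
  refine ⟨i + j, by omega, GradedRing.proj 𝒜 i a * s,
    SetLike.mul_mem_graded (Subtype.prop _) hs, ?_, ?_⟩
  · rw [Proj.basicOpen_mul]
    exact ⟨hi, hxs⟩
  · refine le_trans ?_ haU
    rw [Proj.basicOpen_mul]
    refine le_trans inf_le_left ?_
    rw [Proj.basicOpen_eq_iSup_proj 𝒜 a]
    exact le_iSup (fun i => Proj.basicOpen 𝒜 (GradedRing.proj 𝒜 i a)) i

/-- A point of the projective spectrum misses some element of the irrelevant ideal. -/
theorem exists_mem_irrelevant_notMem (x : ProjectiveSpectrum 𝒜) :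
    ∃ s ∈ (HomogeneousIdeal.irrelevant 𝒜).toIdeal, s ∉ x.asHomogeneousIdeal.toIdeal := by
  by_contra h
  push Not at h
  exact x.not_irrelevant_le (fun s hs => h s hs)

theorem isIrreducible_iff_relevant_prime
    (Z : Set (ProjectiveSpectrum 𝒜)) :
    IsIrreducible Z ↔
      (¬ (HomogeneousIdeal.irrelevant 𝒜).toIdeal ≤ (ProjectiveSpectrum.vanishingIdeal Z).toIdeal ∧
        ∀ f ∈ (HomogeneousIdeal.irrelevant 𝒜).toIdeal, ∀ g ∈ (HomogeneousIdeal.irrelevant 𝒜).toIdeal,
          f * g ∈ (ProjectiveSpectrum.vanishingIdeal Z).toIdeal →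
            f ∈ (ProjectiveSpectrum.vanishingIdeal Z).toIdeal ∨
              g ∈ (ProjectiveSpectrum.vanishingIdeal Z).toIdeal) := by
  have hmem : ∀ f : A, f ∈ (ProjectiveSpectrum.vanishingIdeal Z).toIdeal ↔
      ∀ x ∈ Z, f ∈ x.asHomogeneousIdeal.toIdeal := fun f =>
    ProjectiveSpectrum.mem_vanishingIdeal Z f
  constructor
  · intro hirr
    constructor
    · obtain ⟨z, hz⟩ := hirr.nonempty
      intro hle
      apply z.not_irrelevant_le
      intro s hs
      exact (hmem s).mp (hle hs) z hz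
    · intro f _ g _ hfg
      have hsub : Z ⊆ ProjectiveSpectrum.zeroLocus 𝒜 {f} ∪ ProjectiveSpectrum.zeroLocus 𝒜 {g} := by
        intro x hx
        have := (hmem _).mp hfg x hx
        rcases x.isPrime.mem_or_mem this with h | h
        · left; rw [ProjectiveSpectrum.mem_zeroLocus]; simpa using h
        · right; rw [ProjectiveSpectrum.mem_zeroLocus]; simpa using h
      rcases (isPreirreducible_iff_isClosed_union_isClosed.mp hirr.isPreirreducible) _ _
        (ProjectiveSpectrum.isClosed_zeroLocus 𝒜 _) (ProjectiveSpectrum.isClosed_zeroLocus 𝒜 _)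
        hsub with h | h
      · left
        rw [hmem]
        intro x hx
        have := h hx
        rw [ProjectiveSpectrum.mem_zeroLocus] at this
        simpa using this
      · right
        rw [hmem]
        intro x hx
        have := h hx
        rw [ProjectiveSpectrum.mem_zeroLocus] at this
        simpa using this
  · rintro ⟨hne, hprime⟩
    constructor
    · by_contra hemp
      rw [Set.not_nonempty_iff_eq_empty] at hemp
      apply hne
      intro s _
      rw [hmem]
      intro x hx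
      rw [hemp] at hx
      exact hx.elim
    · rw [isPreirreducible_iff_isClosed_union_isClosed]
      intro Z₁ Z₂ hZ₁ hZ₂ hsub
      by_contra hcon
      push Not at hcon
      obtain ⟨h1, h2⟩ := hcon
      obtain ⟨z₁, hz₁Z, hz₁⟩ := Set.not_subset.mp h1
      obtain ⟨z₂, hz₂Z, hz₂⟩ := Set.not_subset.mp h2
      -- find `f ∈ I(Z₁) ∩ S₊`, `f ∉ z₁`
      have key : ∀ (W : Set (ProjectiveSpectrum 𝒜)), IsClosed W → ∀ z, z ∉ W →
          ∃ f ∈ (HomogeneousIdeal.irrelevant 𝒜).toIdeal,
            (∀ x ∈ W, f ∈ x.asHomogeneousIdeal.toIdeal) ∧ f ∉ z.asHomogeneousIdeal.toIdeal := by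
        intro W hW z hz
        rw [← hW.closure_eq, ← ProjectiveSpectrum.zeroLocus_vanishingIdeal_eq_closure,
          ProjectiveSpectrum.mem_zeroLocus, Set.not_subset] at hz
        obtain ⟨f, hfW, hfz⟩ := hz
        obtain ⟨s, hs, hsz⟩ := exists_mem_irrelevant_notMem 𝒜 z
        refine ⟨f * s, Ideal.mul_mem_left _ _ hs, ?_, ?_⟩
        · intro x hx
          exact Ideal.mul_mem_right _ _ ((ProjectiveSpectrum.mem_vanishingIdeal W f).mp hfW x hx)
        · intro h
          rcases z.isPrime.mem_or_mem h with h | h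
          · exact hfz h
          · exact hsz h
      obtain ⟨f, hfS, hfZ₁, hfz₁⟩ := key Z₁ hZ₁ z₁ hz₁
      obtain ⟨g, hgS, hgZ₂, hgz₂⟩ := key Z₂ hZ₂ z₂ hz₂
      have hfg : f * g ∈ (ProjectiveSpectrum.vanishingIdeal Z).toIdeal := by
        rw [hmem]
        intro x hx
        rcases hsub hx with h | h
        · exact Ideal.mul_mem_right _ _ (hfZ₁ x h)
        · exact Ideal.mul_mem_left _ _ (hgZ₂ x h)
      rcases hprime f hfS g hgS hfg with h | h
      · exact hfz₁ ((hmem f).mp h z₁ hz₁Z)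
      · exact hgz₂ ((hmem g).mp h z₂ hz₂Z)

/-- If `S₊ = span T` with `T` homogeneous of degrees in `[1, D]`, then `𝒜 k ≤ S₊^(m+1)` for
`k ≥ m*D+1`. -/
theorem graded_piece_le_irrelevant_pow (T : Set A) (D : ℕ)
    (hT : ∀ t ∈ T, ∃ d, 0 < d ∧ d ≤ D ∧ t ∈ 𝒜 d)
    (hspan : (HomogeneousIdeal.irrelevant 𝒜).toIdeal = Ideal.span T) :
    ∀ (m k : ℕ), m * D + 1 ≤ k → ∀ x ∈ 𝒜 k,
      x ∈ (HomogeneousIdeal.irrelevant 𝒜).toIdeal ^ (m + 1) := by
  intro m
  induction m with
  | zero =>
    intro k hk x hx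
    simpa using HomogeneousIdeal.mem_irrelevant_of_mem 𝒜 (by omega) hx
  | succ m ih =>
    intro k hk x hx
    rw [Nat.succ_mul] at hk
    have hxI : x ∈ Ideal.span T := by
      rw [← hspan]; exact HomogeneousIdeal.mem_irrelevant_of_mem 𝒜 (by omega) hx
    have key : ∀ y ∈ Ideal.span T, (DirectSum.decompose 𝒜 y k : A) ∈
        (HomogeneousIdeal.irrelevant 𝒜).toIdeal ^ (m + 1 + 1) := by
      intro y hy
      induction hy using Submodule.closure_induction with
      | zero => simp
      | add y z _ _ hy hz =>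
        rw [DirectSum.decompose_add, DirectSum.add_apply, Submodule.coe_add]
        exact add_mem hy hz
      | smul_mem a t ht =>
        obtain ⟨d, hd0, hdD, htd⟩ := hT t ht
        have hle : d ≤ k := by omega
        rw [smul_eq_mul, DirectSum.coe_decompose_mul_of_right_mem_of_le 𝒜 htd hle, pow_succ]
        apply Ideal.mul_mem_mul
        · exact ih (k - d) (by omega) _ (Subtype.prop _)
        · exact HomogeneousIdeal.mem_irrelevant_of_mem 𝒜 hd0 htd
    have := key x hxI
    rwa [DirectSum.decompose_of_mem_same 𝒜 hx] at this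

/-- If `S₊` is finitely generated, it is generated by homogeneous elements of bounded positive
degree. -/
theorem exists_bounded_homogeneous_span (hfg : (HomogeneousIdeal.irrelevant 𝒜).toIdeal.FG) :
    ∃ (T : Set A) (D : ℕ), (∀ t ∈ T, ∃ d, 0 < d ∧ d ≤ D ∧ t ∈ 𝒜 d) ∧
      (HomogeneousIdeal.irrelevant 𝒜).toIdeal = Ideal.span T := by
  classical
  obtain ⟨T₀, hT₀⟩ := hfg
  let D : ℕ := T₀.sup (fun t => (DirectSum.decompose 𝒜 t).support.sup id)
  let T : Set A := {a | a ∈ (HomogeneousIdeal.irrelevant 𝒜).toIdeal ∧ ∃ d, 0 < d ∧ d ≤ D ∧ a ∈ 𝒜 d}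
  refine ⟨T, D, fun t ht => ht.2, ?_⟩
  apply le_antisymm
  · rw [← hT₀, Ideal.span_le]
    intro t ht
    have htI : t ∈ (HomogeneousIdeal.irrelevant 𝒜).toIdeal := by
      rw [← hT₀]; exact Ideal.subset_span ht
    rw [SetLike.mem_coe, ← DirectSum.sum_support_decompose 𝒜 t]
    apply Ideal.sum_mem
    intro i hi
    apply Ideal.subset_span
    refine ⟨(HomogeneousIdeal.irrelevant 𝒜).isHomogeneous i htI, i, ?_, ?_, Subtype.prop _⟩
    · rw [Nat.pos_iff_ne_zero]
      rintro rfl
      rw [DFinsupp.mem_support_iff] at hi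
      apply hi
      have : (DirectSum.decompose 𝒜 t 0 : A) = 0 := htI
      exact Subtype.ext this
    · have h1 : i ≤ (DirectSum.decompose 𝒜 t).support.sup id := Finset.le_sup (f := id) hi
      exact h1.trans (Finset.le_sup (f := fun t => (DirectSum.decompose 𝒜 t).support.sup id) ht)
  · rw [Ideal.span_le]
    intro a ha
    exact ha.1

/-- If `S₊` is finitely generated and all its elements are nilpotent, the graded pieces vanish
eventually. -/
theorem eventually_eq_bot_of_forall_isNilpotent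
    (hfg : (HomogeneousIdeal.irrelevant 𝒜).toIdeal.FG)
    (hnil : ∀ f ∈ (HomogeneousIdeal.irrelevant 𝒜).toIdeal, IsNilpotent f) :
    ∃ n : ℕ, ∀ k : ℕ, n ≤ k → 𝒜 k = ⊥ := by
  have hle : (HomogeneousIdeal.irrelevant 𝒜).toIdeal ≤ nilradical A := fun f hf => hnil f hf
  obtain ⟨N, hN⟩ := hfg.isNilpotent_iff_le_nilradical.mpr hle
  obtain ⟨T, D, hT, hspan⟩ := exists_bounded_homogeneous_span 𝒜 hfg
  refine ⟨N * D + 1, fun k hk => ?_⟩
  rw [eq_bot_iff]
  intro x hx
  have h1 := graded_piece_le_irrelevant_pow 𝒜 T D hT hspan N k hk x hx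
  have h2 : (HomogeneousIdeal.irrelevant 𝒜).toIdeal ^ (N + 1) ≤
      (HomogeneousIdeal.irrelevant 𝒜).toIdeal ^ N := Ideal.pow_le_pow_right (Nat.le_succ N)
  have h3 := h2 h1
  rw [hN] at h3
  exact h3

/-- If `Proj` is empty, every element of the irrelevant ideal is nilpotent. -/
theorem forall_isNilpotent_of_isEmpty (hE : IsEmpty (Proj 𝒜)) :
    ∀ f ∈ (HomogeneousIdeal.irrelevant 𝒜).toIdeal, IsNilpotent f := by
  intro f hf
  classical
  rw [← DirectSum.sum_support_decompose 𝒜 f]
  apply isNilpotent_sum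
  intro i hi
  by_cases hi0 : i = 0
  · subst hi0
    have : (DirectSum.decompose 𝒜 f 0 : A) = 0 := hf
    rw [this]; exact IsNilpotent.zero
  · apply isNilpotent_of_basicOpen_eq_bot 𝒜 (Nat.pos_of_ne_zero hi0) _ (Subtype.prop _)
    rw [eq_bot_iff]; intro x; exact (hE.false x).elim

variable {B : Type u} [CommRing B] [Algebra R B] (ℬ : ℕ → Submodule R B) [GradedAlgebra ℬ]

/-- A surjective graded ring hom induces surjections on degree-zero localizations. -/
theorem away_map_surjective (φ : 𝒜 →+*ᵍ ℬ) (hsurj : Function.Surjective φ) {i : ℕ} (s : A)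
    (hs : s ∈ 𝒜 i) :
    Function.Surjective (HomogeneousLocalization.Away.map φ s) := by
  intro x
  obtain ⟨n, b, hb, rfl⟩ := HomogeneousLocalization.Away.mk_surjective ℬ (φ.2 hs) x
  obtain ⟨a', ha'⟩ := hsurj b
  refine ⟨HomogeneousLocalization.Away.mk 𝒜 hs n (DirectSum.decompose 𝒜 a' (n • i))
    (Subtype.prop _), ?_⟩
  rw [HomogeneousLocalization.Away.map_mk]
  apply HomogeneousLocalization.val_injective
  simp only [HomogeneousLocalization.Away.val_mk]
  rw [GradedRingHom.map_directSumDecompose, ha', DirectSum.decompose_of_mem_same ℬ hb]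
  rfl

/-- The square `Spec B_(φ f) ⟶ Spec A_(f)` over `Proj ℬ ⟶ Proj 𝒜` is cartesian. -/
theorem isPullback_awayι_map (φ : 𝒜 →+*ᵍ ℬ)
    (hφ : HomogeneousIdeal.irrelevant ℬ ≤ (HomogeneousIdeal.irrelevant 𝒜).map φ)
    {i : ℕ} (hpos : 0 < i) (f : A) (hs : f ∈ 𝒜 i) :
    IsPullback (Spec.map (CommRingCat.ofHom (HomogeneousLocalization.Away.map φ f)))
      (Proj.awayι ℬ (φ f) (φ.2 hs) hpos) (Proj.awayι 𝒜 f hs hpos) (Proj.map φ hφ) := by
  apply IsOpenImmersion.isPullback
  · exact Proj.awayι_comp_map φ hφ hpos _ hs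
  · rw [Proj.opensRange_awayι, Proj.opensRange_awayι, Proj.map_preimage_basicOpen]

theorem map_base_apply (φ : 𝒜 →+*ᵍ ℬ)
    (hφ : HomogeneousIdeal.irrelevant ℬ ≤ (HomogeneousIdeal.irrelevant 𝒜).map φ) (y : Proj ℬ) :
    ((Proj.map φ hφ).base y).asHomogeneousIdeal = y.asHomogeneousIdeal.comap φ := rfl

/-- a graded hom maps the irrelevant ideal into the irrelevant ideal -/
theorem map_mem_irrelevant (φ : 𝒜 →+*ᵍ ℬ) {s : A}
    (hs : s ∈ (HomogeneousIdeal.irrelevant 𝒜).toIdeal) :
    φ s ∈ (HomogeneousIdeal.irrelevant ℬ).toIdeal := by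
  have h0 : (DirectSum.decompose 𝒜 s 0 : A) = 0 := hs
  show (DirectSum.decompose ℬ (φ s) 0 : B) = 0
  rw [← GradedRingHom.map_directSumDecompose, h0, map_zero]

/-- For a surjective graded hom, the range of `Proj.map` is the zero locus of the kernel. -/
theorem range_map_of_surjective (φ : 𝒜 →+*ᵍ ℬ) (hsurj : Function.Surjective φ)
    (hφ : HomogeneousIdeal.irrelevant ℬ ≤ (HomogeneousIdeal.irrelevant 𝒜).map φ) :
    Set.range (Proj.map φ hφ).base =
      {x : Proj 𝒜 | RingHom.ker φ.toRingHom ≤ x.asHomogeneousIdeal.toIdeal} := by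
  ext x
  constructor
  · rintro ⟨y, rfl⟩
    intro a ha
    rw [map_base_apply]
    show φ a ∈ y.asHomogeneousIdeal.toIdeal
    have : φ a = 0 := ha
    rw [this]
    exact Ideal.zero_mem _
  · intro hx
    have hx' : RingHom.ker φ.toRingHom ≤ x.asHomogeneousIdeal.toIdeal := hx
    have hcm : (x.asHomogeneousIdeal.toIdeal.map φ.toRingHom).comap φ.toRingHom =
        x.asHomogeneousIdeal.toIdeal := by
      rw [Ideal.comap_map_of_surjective' φ.toRingHom hsurj, sup_eq_left]
      exact hx'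
    have := x.isPrime
    have hprime : (x.asHomogeneousIdeal.map φ).toIdeal.IsPrime :=
      Ideal.map_isPrime_of_surjective (f := φ.toRingHom) hsurj hx'
    let y : ↥(Proj ℬ) := show ProjectiveSpectrum ℬ from
      { asHomogeneousIdeal := x.asHomogeneousIdeal.map φ
        isPrime := hprime
        not_irrelevant_le := by
          intro hle
          apply x.not_irrelevant_le
          intro s hs
          have h1 : φ s ∈ (x.asHomogeneousIdeal.map φ).toIdeal := hle (map_mem_irrelevant 𝒜 ℬ φ hs)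
          have h2 : s ∈ (x.asHomogeneousIdeal.toIdeal.map φ.toRingHom).comap φ.toRingHom := h1
          rw [hcm] at h2
          exact h2 }
    refine ⟨y, ?_⟩
    apply ProjectiveSpectrum.ext
    rw [map_base_apply]
    apply HomogeneousIdeal.toIdeal_injective
    exact hcm

end Groth.Agent.Lib.Helper18.ProjBasic
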