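import Groth.Prelude.Def_GrMod2
import Groth.Agent.Lib.Helper18.ProjBasic
import Mathlib.RingTheory.GradedAlgebra.Radical
set_option autoImplicit false
set_option linter.unusedSectionVars false
universe u
open CategoryTheory AlgebraicGeometry Opposite TopologicalSpace

namespace Groth.Agent.Lib.Helper18.GrTildeBasic

variable {R A : Type u} [CommRing R] [CommRing A] [Algebra R A] (𝒜 : ℕ → Submodule R A)
  [GradedAlgebra 𝒜]
variable {M : Type u} [AddCommGroup M] [Module R M] [Module A M] [IsScalarTower R A M]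
  (ℳ : ℕ → Submodule R M) [DirectSum.Decomposition ℳ] [SetLike.GradedSMul 𝒜 ℳ]

/-- If `a • m = 0` with `m` homogeneous, then every homogeneous component of `a` kills `m`. -/
theorem decompose_smul_eq_zero (a : A) (m : M) (i : ℕ) (hm : m ∈ ℳ i) (h : a • m = 0) (j : ℕ) :
    (DirectSum.decompose 𝒜 a j : A) • m = 0 := by
  classical
  have h1 : ∀ j', (DirectSum.decompose 𝒜 a j' : A) • m ∈ ℳ (j' + i) := fun j' => by
    have := SetLike.GradedSMul.smul_mem (A := 𝒜) (B := ℳ) (i := j') (j := i)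
      (Subtype.prop (DirectSum.decompose 𝒜 a j')) hm
    rwa [vadd_eq_add] at this
  have h2 : ∑ j' ∈ (DirectSum.decompose 𝒜 a).support, (DirectSum.decompose 𝒜 a j' : A) • m = 0 := by
    rw [← Finset.sum_smul, DirectSum.sum_support_decompose 𝒜 a, h]
  have h3 := congrArg (fun y => (DirectSum.decompose ℳ y (j + i) : M)) h2
  simp only [DirectSum.decompose_sum, DirectSum.decompose_zero] at h3
  rw [DFinsupp.finsetSum_apply, AddSubmonoidClass.coe_finsetSum] at h3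
  have h4 : ∀ j' ∈ (DirectSum.decompose 𝒜 a).support,
      ((DirectSum.decompose ℳ ((DirectSum.decompose 𝒜 a j' : A) • m)) (j + i) : M) =
        if j' = j then (DirectSum.decompose 𝒜 a j : A) • m else 0 := by
    intro j' _
    split_ifs with hj
    · subst hj
      exact DirectSum.decompose_of_mem_same ℳ (h1 j')
    · exact DirectSum.decompose_of_mem_ne ℳ (h1 j') (by omega)
  rw [Finset.sum_congr rfl h4, Finset.sum_ite_eq'] at h3
  by_cases hj : j ∈ (DirectSum.decompose 𝒜 a).support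
  · rw [if_pos hj] at h3
    simpa using h3
  · rw [DFinsupp.notMem_support_iff] at hj
    rw [hj]
    simp

/-- The annihilator of a homogeneous element is a homogeneous ideal. -/
theorem annihilator_isHomogeneous (m : M) (i : ℕ) (hm : m ∈ ℳ i) :
    (Ideal.IsHomogeneous 𝒜 (Submodule.annihilator (Submodule.span A {m}) : Ideal A)) := by
  intro j a ha
  rw [Submodule.mem_annihilator_span_singleton] at ha ⊢
  exact decompose_smul_eq_zero 𝒜 ℳ a m i hm ha j

/-- If `m` (homogeneous) is killed, for every `x ∈ D₊(f)`, by some element outside `x`, where `f`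
is homogeneous of positive degree, then a power of `f` kills `m`. -/
theorem exists_pow_smul_eq_zero {d : ℕ} (hd : 0 < d) {f : A} (hf : f ∈ 𝒜 d) (i : ℕ) (m : M)
    (hm : m ∈ ℳ i)
    (h : ∀ x : ProjectiveSpectrum 𝒜, f ∉ x.asHomogeneousIdeal →
      ∃ u : A, u ∉ x.asHomogeneousIdeal ∧ u • m = 0) :
    ∃ N : ℕ, f ^ N • m = 0 := by
  have hI := annihilator_isHomogeneous 𝒜 ℳ m i hm
  have hfrad : f ∈ (Submodule.annihilator (Submodule.span A {m}) : Ideal A).radical := by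
    rw [hI.radical_eq, Ideal.mem_sInf]
    rintro P ⟨hPh, hIP, hPp⟩
    by_cases hirr : HomogeneousIdeal.irrelevant 𝒜 ≤ ⟨P, hPh⟩
    · exact hirr (HomogeneousIdeal.mem_irrelevant_of_mem 𝒜 hd hf)
    · by_contra hfP
      obtain ⟨u, hu, hum⟩ := h (⟨⟨P, hPh⟩, hPp, hirr⟩ : ProjectiveSpectrum 𝒜) hfP
      apply hu
      apply hIP
      rw [Submodule.mem_annihilator_span_singleton]
      exact hum
  obtain ⟨N, hN⟩ := hfrad
  rw [Submodule.mem_annihilator_span_singleton] at hN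
  exact ⟨N, hN⟩

/-- vanishing of a fraction in the localized module -/
theorem exists_smul_eq_zero_of_mk_eq_zero (x : ProjectiveSpectrum 𝒜) (m : M)
    (s : x.asHomogeneousIdeal.toIdeal.primeCompl)
    (h : (LocalizedModule.mk m s : GrTilde.LocMod 𝒜 (M := M) x) = 0) :
    ∃ u : A, u ∉ x.asHomogeneousIdeal ∧ u • m = 0 := by
  rw [← LocalizedModule.zero_mk 1, LocalizedModule.mk_eq] at h
  obtain ⟨u, hu⟩ := h
  refine ⟨u.1, u.2, ?_⟩
  have h2 : u • m = 0 := by simpa using hu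
  exact h2

/-- If all stalks `tildeAt` are trivial, `M(n)~` is zero. -/
theorem isZero_tilde_of_subsingleton (n : ℤ)
    (h : ∀ x : ProjectiveSpectrum 𝒜, Subsingleton (GrTilde.tildeAt 𝒜 ℳ n x)) :
    Limits.IsZero (GrTilde.tilde 𝒜 ℳ n) := by
  rw [Limits.IsZero.iff_id_eq_zero]
  apply Scheme.Modules.hom_ext
  intro U
  have hsub : Subsingleton (GrTilde.sect 𝒜 ℳ n (op U)) := by
    constructor
    intro a b
    apply Subtype.ext
    funext x
    exact (h x.1).elim _ _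
  ext s
  exact hsub.elim _ _

/-- If every element of `M` is killed by a power of every homogeneous element of positive
degree, all the localizations `M_x`, `x ∈ Proj`, vanish. -/
theorem subsingleton_locMod_of_locally_nilpotent
    (h : ∀ (z : M) (d : ℕ) (f : A), 0 < d → f ∈ 𝒜 d → ∃ k : ℕ, f ^ k • z = 0)
    (x : ProjectiveSpectrum 𝒜) : Subsingleton (GrTilde.LocMod 𝒜 (M := M) x) := by
  obtain ⟨d, hd, f, hf, hx⟩ :=
    Groth.Agent.Lib.Helper18.ProjBasic.exists_pos_homogeneous_mem_basicOpen 𝒜 x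
  replace hx : f ∉ x.asHomogeneousIdeal := hx
  have hzero : ∀ q : GrTilde.LocMod 𝒜 (M := M) x, q = 0 := by
    intro q
    induction q using LocalizedModule.induction_on with
    | h z t =>
      obtain ⟨k, hk⟩ := h z d f hd hf
      rw [← LocalizedModule.zero_mk 1, LocalizedModule.mk_eq]
      refine ⟨⟨f ^ k, fun hmem => hx (x.isPrime.mem_of_pow_mem k hmem)⟩, ?_⟩
      show f ^ k • (1 : x.asHomogeneousIdeal.toIdeal.primeCompl) • z = f ^ k • t • (0 : M)
      rw [one_smul, hk, smul_zero, smul_zero]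
  exact ⟨fun a b => by rw [hzero a, hzero b]⟩

theorem frac_mem_tildeAt (n : ℤ) {i j : ℕ} (m : ℳ i) (s : 𝒜 j) (hij : (i : ℤ) = j + n)
    (y : ProjectiveSpectrum 𝒜) (hy : s.1 ∉ y.asHomogeneousIdeal) :
    (LocalizedModule.mk m.1 ⟨s.1, hy⟩ : GrTilde.LocMod 𝒜 (M := M) y) ∈ GrTilde.tildeAt 𝒜 ℳ n y :=
  Submodule.subset_span ⟨i, j, m, s, hy, hij, rfl⟩

/-- The section `m / s` of `M(n)~` over `D₊(s)`. -/
noncomputable def fracSect (n : ℤ) {i j : ℕ} (m : ℳ i) (s : 𝒜 j) (hij : (i : ℤ) = j + n) :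
    GrTilde.sect 𝒜 ℳ n (op (ProjectiveSpectrum.basicOpen 𝒜 s.1)) :=
  ⟨fun y => ⟨LocalizedModule.mk m.1 ⟨s.1, y.2⟩, frac_mem_tildeAt 𝒜 ℳ n m s hij y.1 y.2⟩,
    fun y => ⟨ProjectiveSpectrum.basicOpen 𝒜 s.1, y.2, 𝟙 _, i, j, m, s, fun z => z.2, Or.inl hij,
      fun _ => rfl⟩⟩

theorem fracSect_apply (n : ℤ) {i j : ℕ} (m : ℳ i) (s : 𝒜 j) (hij : (i : ℤ) = j + n)
    (y : ProjectiveSpectrum.basicOpen 𝒜 s.1) :
    (((fracSect 𝒜 ℳ n m s hij).1 y : GrTilde.tildeAt 𝒜 ℳ n y.1) : GrTilde.LocMod 𝒜 (M := M) y.1) =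
      LocalizedModule.mk m.1 ⟨s.1, y.2⟩ := rfl

/-- If `M(n)~` is zero, all its sections vanish. -/
theorem sect_eq_zero_of_isZero (n : ℤ) (hZ : Limits.IsZero (GrTilde.tilde 𝒜 ℳ n))
    (U : (Proj 𝒜).Opens) (s : GrTilde.sect 𝒜 ℳ n (op U)) : s = 0 := by
  have h1 : (𝟙 (GrTilde.tilde 𝒜 ℳ n)) = 0 := (Limits.IsZero.iff_id_eq_zero _).mp hZ
  have h2 : Scheme.Modules.Hom.app (𝟙 (GrTilde.tilde 𝒜 ℳ n)) U =
      Scheme.Modules.Hom.app (0 : GrTilde.tilde 𝒜 ℳ n ⟶ GrTilde.tilde 𝒜 ℳ n) U := by rw [h1]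
  rw [Scheme.Modules.Hom.id_app, Scheme.Modules.Hom.zero_app] at h2
  have h3 := ConcreteCategory.congr_hom h2 s
  exact h3

/-- If `M~ = 0` and `S₊` is generated in degree one, every homogeneous element of `M` is killed by
a power of each homogeneous element of positive degree. -/
theorem exists_pow_smul_eq_zero_of_isZero
    (hgen : (HomogeneousIdeal.irrelevant 𝒜).toIdeal = Ideal.span (𝒜 1 : Set A))
    (hZ : Limits.IsZero (GrTilde.tilde 𝒜 ℳ 0)) (i : ℕ) (m : ℳ i) (d : ℕ) (f : A) (hd : 0 < d)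
    (hf : f ∈ 𝒜 d) : ∃ k : ℕ, f ^ k • m.1 = 0 := by
  apply exists_pow_smul_eq_zero 𝒜 ℳ hd hf i m.1 m.2
  intro x _
  -- a degree one element outside `x`
  obtain ⟨t, ht1, htx⟩ : ∃ t ∈ 𝒜 1, t ∉ x.asHomogeneousIdeal := by
    by_contra hcon
    push Not at hcon
    apply x.not_irrelevant_le
    show (HomogeneousIdeal.irrelevant 𝒜).toIdeal ≤ x.asHomogeneousIdeal.toIdeal
    rw [hgen, Ideal.span_le]
    intro t ht
    exact hcon t ht
  have hti : t ^ i ∈ 𝒜 i := by simpa using SetLike.pow_mem_graded i ht1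
  have hx' : t ^ i ∉ x.asHomogeneousIdeal := fun h => htx (x.isPrime.mem_of_pow_mem i h)
  have hs := sect_eq_zero_of_isZero 𝒜 ℳ 0 hZ _ (fracSect 𝒜 ℳ 0 m ⟨t ^ i, hti⟩ (by simp))
  have h1 := fracSect_apply 𝒜 ℳ 0 m ⟨t ^ i, hti⟩ (by simp) ⟨x, hx'⟩
  rw [hs] at h1
  exact exists_smul_eq_zero_of_mk_eq_zero 𝒜 x m.1 _ h1.symm

/-- Non-homogeneous version. -/
theorem exists_pow_smul_eq_zero_of_isZero'
    (hgen : (HomogeneousIdeal.irrelevant 𝒜).toIdeal = Ideal.span (𝒜 1 : Set A))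
    (hZ : Limits.IsZero (GrTilde.tilde 𝒜 ℳ 0)) (z : M) (d : ℕ) (f : A) (hd : 0 < d)
    (hf : f ∈ 𝒜 d) : ∃ k : ℕ, f ^ k • z = 0 := by
  classical
  choose k hk using fun i : ℕ =>
    exists_pow_smul_eq_zero_of_isZero 𝒜 ℳ hgen hZ i (DirectSum.decompose ℳ z i) d f hd hf
  obtain ⟨N, hN⟩ : ∃ N : ℕ, N = (DirectSum.decompose ℳ z).support.sup k := ⟨_, rfl⟩
  refine ⟨N, ?_⟩
  have hz : z = ∑ i ∈ (DirectSum.decompose ℳ z).support, (DirectSum.decompose ℳ z i : M) :=
    (DirectSum.sum_support_decompose ℳ z).symm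
  rw [hz, Finset.smul_sum]
  apply Finset.sum_eq_zero
  intro i hi
  have hle : k i ≤ N := hN ▸ Finset.le_sup hi
  obtain ⟨e, he⟩ := Nat.exists_eq_add_of_le hle
  rw [he, pow_add, mul_comm, mul_smul, hk i, smul_zero]

end Groth.Agent.Lib.Helper18.GrTildeBasic
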