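import Mathlib
import Groth.Prelude.Def_W4c4cptpiccptjacBI

/-!
Helper lemmas for the combinatorics of the Basic Inequality on weighted multigraphs
(`LabGraph.SatisfiesBI`, `LabGraph.twist`, `LabGraph.cut`).
-/

set_option autoImplicit false
set_option linter.unusedSectionVars false
universe u

namespace Groth.Agent.Lib.Helper18.LabGraphBI

open LabGraph

variable {V E : Type u} [Fintype V] [Fintype E] [DecidableEq V] [DecidableEq E]

/-- per-edge cut indicator -/
def cE (ends : E → V × V) (Y : Finset V) (e : E) : ℤ :=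
  if ((ends e).1 ∈ Y ∧ (ends e).2 ∉ Y) ∨ ((ends e).1 ∉ Y ∧ (ends e).2 ∈ Y) then 1 else 0

/-- vertex indicator -/
def ind (Y : Finset V) (v : V) : ℤ := if v ∈ Y then 1 else 0

/-- edge difference -/
def dx (ends : E → V × V) (φ : V → ℤ) (e : E) : ℤ := φ (ends e).1 - φ (ends e).2

lemma cut_eq (ends : E → V × V) (Y : Finset V) :
    (cut ends Y : ℤ) = ∑ e : E, cE ends Y e := by
  unfold cut cE
  rw [Finset.card_filter]
  push_cast
  rfl

lemma sum_twist (ends : E → V × V) (φ : V → ℤ) (Y : Finset V) :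
    ∑ v ∈ Y, twist ends φ v =
      ∑ e : E, (ind Y (ends e).1 * (φ (ends e).2 - φ (ends e).1) +
        ind Y (ends e).2 * (φ (ends e).1 - φ (ends e).2)) := by
  unfold twist
  rw [Finset.sum_comm]
  refine Finset.sum_congr rfl (fun e _ => ?_)
  rw [Finset.sum_add_distrib]
  rw [Finset.sum_ite_eq Y (ends e).1 (fun _ => φ (ends e).2 - φ (ends e).1)]
  rw [Finset.sum_ite_eq Y (ends e).2 (fun _ => φ (ends e).1 - φ (ends e).2)]
  unfold ind
  split_ifs <;> simp

lemma sum_twist' (ends : E → V × V) (φ : V → ℤ) (Y : Finset V) :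
    ∑ v ∈ Y, twist ends φ v =
      - ∑ e : E, dx ends φ e * (ind Y (ends e).1 - ind Y (ends e).2) := by
  rw [sum_twist, ← Finset.sum_neg_distrib]
  refine Finset.sum_congr rfl (fun e _ => ?_)
  unfold dx
  ring

lemma sum_twist_univ (ends : E → V × V) (φ : V → ℤ) :
    ∑ v : V, twist ends φ v = 0 := by
  rw [sum_twist]
  apply Finset.sum_eq_zero
  intro e _
  simp [ind]

lemma twist_add_const (ends : E → V × V) (φ : V → ℤ) (c : ℤ) (v : V) :
    twist ends (fun u => φ u + c) v = twist ends φ v := by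
  unfold twist
  refine Finset.sum_congr rfl (fun e _ => ?_)
  congr 1 <;> split_ifs <;> ring

lemma sum_endCount (ends : E → V × V) :
    ∑ v : V, (endCount ends Finset.univ v : ℤ) = 2 * (Fintype.card E : ℤ) := by
  unfold endCount
  push_cast
  rw [Finset.sum_comm]
  have : ∀ e : E, ∑ v : V, (((if (ends e).1 = v then 1 else 0 : ℤ)) +
      (if (ends e).2 = v then 1 else 0)) = 2 := by
    intro e
    rw [Finset.sum_add_distrib]
    simp
  rw [Finset.sum_congr rfl (fun e _ => this e)]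
  simp [mul_comm]

lemma canDeg_univ (ends : E → V × V) (w : V → ℕ) :
    canDeg ends w Finset.univ = 2 * genus ends w - 2 := by
  unfold canDeg genus
  rw [Finset.sum_add_distrib, Finset.sum_sub_distrib, sum_endCount, ← Finset.mul_sum]
  simp
  ring

/-- The local weight `m v = K d_v - D κ_v`, so that `K d_Y - D canDeg Y = Σ_{v∈Y} m v`. -/
lemma mu_eq_sum (ends : E → V × V) (w : V → ℕ) (d : V → ℤ) (K D : ℤ) (U : Finset V) :
    K * (∑ v ∈ U, d v) - D * canDeg ends w U =
      ∑ v ∈ U, (K * d v - D * (2 * (w v : ℤ) - 2 + (endCount ends Finset.univ v : ℤ))) := by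
  unfold canDeg
  rw [Finset.sum_sub_distrib, Finset.mul_sum, Finset.mul_sum]

/-- square of the edge difference of an indicator is the cut indicator -/
lemma ind_sub_sq (ends : E → V × V) (Z : Finset V) (e : E) :
    (ind Z (ends e).1 - ind Z (ends e).2) ^ 2 = cE ends Z e := by
  unfold ind cE
  by_cases h1 : (ends e).1 ∈ Z <;> by_cases h2 : (ends e).2 ∈ Z <;> simp [h1, h2]

/-- For a connected graph, `φ v - φ v0` is a fixed integer combination of edge differences. -/
lemma exists_flow (ends : E → V × V) (hconn : Connected ends) (v0 v : V) :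
    ∃ f : E → ℤ, ∀ φ : V → ℤ, ∑ e, f e * dx ends φ e = φ v - φ v0 := by
  have h := hconn.2 v0 v
  induction h with
  | refl => exact ⟨0, fun φ => by simp⟩
  | tail _ hbc ih =>
    rename_i b c
    obtain ⟨f, hf⟩ := ih
    obtain ⟨e, he | he⟩ := hbc
    · refine ⟨fun e' => f e' - (if e' = e then 1 else 0), fun φ => ?_⟩
      have : ∑ e', (f e' - (if e' = e then 1 else 0)) * dx ends φ e'
          = ∑ e', f e' * dx ends φ e' - dx ends φ e := by
        simp [sub_mul, Finset.sum_sub_distrib]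
      rw [this, hf φ]
      unfold dx
      rw [he]
      ring
    · refine ⟨fun e' => f e' + (if e' = e then 1 else 0), fun φ => ?_⟩
      have : ∑ e', (f e' + (if e' = e then 1 else 0)) * dx ends φ e'
          = ∑ e', f e' * dx ends φ e' + dx ends φ e := by
        simp [add_mul, Finset.sum_add_distrib]
      rw [this, hf φ]
      unfold dx
      rw [he]
      ring

lemma exists_flow_of_sum_zero (ends : E → V × V) (hconn : Connected ends) (μ : V → ℤ)
    (hμ : ∑ v, μ v = 0) :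
    ∃ c : E → ℤ, ∀ φ : V → ℤ, ∑ v, μ v * φ v = ∑ e, c e * dx ends φ e := by
  obtain ⟨v0⟩ := hconn.1
  choose f hf using exists_flow ends hconn v0
  refine ⟨fun e => ∑ v, μ v * f v e, fun φ => ?_⟩
  have h1 : ∑ e, (∑ v, μ v * f v e) * dx ends φ e = ∑ v, μ v * ∑ e, f v e * dx ends φ e := by
    simp_rw [Finset.sum_mul, Finset.mul_sum]
    rw [Finset.sum_comm]
    refine Finset.sum_congr rfl (fun v _ => Finset.sum_congr rfl (fun e _ => ?_))
    ring
  rw [h1]
  simp_rw [hf]
  simp_rw [mul_sub]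
  rw [Finset.sum_sub_distrib, ← Finset.sum_mul, hμ]
  simp

/-- A nonempty proper vertex set of a connected graph is crossed by an edge. -/
lemma exists_crossing_edge (ends : E → V × V) (hconn : Connected ends) (Y : Finset V)
    (v w : V) (hv : v ∈ Y) (hw : w ∉ Y) :
    ∃ e : E, ((ends e).1 ∈ Y ∧ (ends e).2 ∉ Y) ∨ ((ends e).1 ∉ Y ∧ (ends e).2 ∈ Y) := by
  have h := hconn.2 v w
  induction h with
  | refl => exact absurd hv hw
  | @tail b c _ hbc ih =>
    by_cases hb : b ∈ Y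
    · obtain ⟨e, he | he⟩ := hbc
      · exact ⟨e, Or.inl (by rw [he]; exact ⟨hb, hw⟩)⟩
      · exact ⟨e, Or.inr (by rw [he]; exact ⟨hw, hb⟩)⟩
    · exact ih hb

/-- The potential whose minimisers give Basic-Inequality representatives. -/
def Psi (ends : E → V × V) (K : ℤ) (μ : V → ℤ) (φ : V → ℤ) : ℤ :=
  K * ∑ e, (dx ends φ e) ^ 2 - 2 * ∑ v, μ v * φ v

lemma Psi_bddBelow (ends : E → V × V) (hconn : Connected ends) (K : ℤ) (hK : 1 ≤ K) (μ : V → ℤ)
    (hμ : ∑ v, μ v = 0) : ∃ B : ℤ, ∀ φ : V → ℤ, B ≤ Psi ends K μ φ := by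
  obtain ⟨c, hc⟩ := exists_flow_of_sum_zero ends hconn μ hμ
  refine ⟨- ∑ e, (c e) ^ 2, fun φ => ?_⟩
  unfold Psi
  rw [hc φ, Finset.mul_sum, Finset.mul_sum, ← Finset.sum_sub_distrib, ← Finset.sum_neg_distrib]
  apply Finset.sum_le_sum
  intro e _
  nlinarith [sq_nonneg (dx ends φ e - c e), sq_nonneg (dx ends φ e)]

lemma exists_Psi_min (ends : E → V × V) (hconn : Connected ends) (K : ℤ) (hK : 1 ≤ K) (μ : V → ℤ)
    (hμ : ∑ v, μ v = 0) : ∃ φ : V → ℤ, ∀ ψ : V → ℤ, Psi ends K μ φ ≤ Psi ends K μ ψ := by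
  obtain ⟨B, hB⟩ := Psi_bddBelow ends hconn K hK μ hμ
  obtain ⟨lb, ⟨φ, hφ⟩, hlb⟩ := Int.exists_least_of_bdd (P := fun z => ∃ φ, Psi ends K μ φ = z)
    ⟨B, fun z ⟨φ, hφ⟩ => hφ ▸ hB φ⟩ ⟨_, 0, rfl⟩
  exact ⟨φ, fun ψ => hφ ▸ hlb _ ⟨ψ, rfl⟩⟩

lemma sum_mul_ind (μ : V → ℤ) (Z : Finset V) : ∑ v, μ v * ind Z v = ∑ v ∈ Z, μ v := by
  unfold ind
  simp [Finset.sum_ite_mem]

/-- Change of the potential under adding `s • 1_Z` with `s = ±1`. -/
lemma Psi_add_ind (ends : E → V × V) (K : ℤ) (μ : V → ℤ) (φ : V → ℤ) (Z : Finset V) (s : ℤ)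
    (hs : s ^ 2 = 1) :
    Psi ends K μ (fun v => φ v + s * ind Z v) - Psi ends K μ φ =
      K * (cut ends Z : ℤ) - 2 * s * (∑ v ∈ Z, μ v + K * ∑ v ∈ Z, twist ends φ v) := by
  unfold Psi
  have hdx : ∀ e, dx ends (fun v => φ v + s * ind Z v) e
      = dx ends φ e + s * (ind Z (ends e).1 - ind Z (ends e).2) := by
    intro e; unfold dx; ring
  simp_rw [hdx]
  have h1 : ∀ e, (dx ends φ e + s * (ind Z (ends e).1 - ind Z (ends e).2)) ^ 2
      = (dx ends φ e) ^ 2 + 2 * s * (dx ends φ e * (ind Z (ends e).1 - ind Z (ends e).2))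
        + cE ends Z e := by
    intro e
    rw [← ind_sub_sq]
    have : (s * (ind Z (ends e).1 - ind Z (ends e).2)) ^ 2
        = (ind Z (ends e).1 - ind Z (ends e).2) ^ 2 := by rw [mul_pow, hs, one_mul]
    rw [add_sq, this]
    ring
  simp_rw [h1]
  rw [Finset.sum_add_distrib, Finset.sum_add_distrib, ← Finset.mul_sum, ← cut_eq]
  have h2 : ∑ v, μ v * (φ v + s * ind Z v) = ∑ v, μ v * φ v + s * ∑ v ∈ Z, μ v := by
    simp_rw [mul_add]
    rw [Finset.sum_add_distrib, ← sum_mul_ind μ Z, Finset.mul_sum]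
    congr 1
    refine Finset.sum_congr rfl (fun v _ => ?_)
    ring
  rw [h2, sum_twist']
  ring

end Groth.Agent.Lib.Helper18.LabGraphBI
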