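import Mathlib.RingTheory.Localization.BaseChange
import Mathlib.RingTheory.Localization.AtPrime.Basic
import Mathlib.LinearAlgebra.TensorProduct.Tower
import Mathlib.RingTheory.IsTensorProduct

/-!
# Localization of a base change (helper18)

Namespace `Groth.Agent.Lib.Helper18`.

* `nonempty_linearEquiv_localization_tensor` : if `N ≃ B ⊗[A] M`, `M' = S⁻¹ M` over `A' = S⁻¹ A`
  and `N' = T⁻¹ N` over `B' = T⁻¹ B` with compatible algebra structures
  `A → A' → B'`, `A → B → B'`, then `N' ≃ₗ[B'] B' ⊗[A'] M'`.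
-/

open TensorProduct

namespace Groth.Agent.Lib.Helper18

theorem nonempty_linearEquiv_localization_tensor
    {A B : Type*} [CommRing A] [CommRing B] [Algebra A B]
    (S : Submonoid A) (T : Submonoid B)
    {A' B' : Type*} [CommRing A'] [CommRing B'] [Algebra A A'] [Algebra B B'] [Algebra A' B']
    [Algebra A B'] [IsScalarTower A A' B'] [IsScalarTower A B B']
    [IsLocalization S A'] [IsLocalization T B']
    {M M' : Type*} [AddCommGroup M] [Module A M] [AddCommGroup M'] [Module A M'] [Module A' M']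
    [IsScalarTower A A' M']
    (g : M →ₗ[A] M') [IsLocalizedModule S g]
    {N N' : Type*} [AddCommGroup N] [Module B N] [AddCommGroup N'] [Module B N'] [Module B' N']
    [IsScalarTower B B' N']
    (h : N →ₗ[B] N') [IsLocalizedModule T h]
    (e : N ≃ₗ[B] B ⊗[A] M) :
    Nonempty (N' ≃ₗ[B'] B' ⊗[A'] M') := by
  let e1 : B' ⊗[B] N ≃ₗ[B'] N' := (IsLocalizedModule.isBaseChange T B' h).equiv
  let e2 : B' ⊗[B] N ≃ₗ[B'] B' ⊗[B] (B ⊗[A] M) :=
    TensorProduct.AlgebraTensorModule.congr (LinearEquiv.refl B' B') e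
  let e3 : B' ⊗[B] (B ⊗[A] M) ≃ₗ[B'] B' ⊗[A] M :=
    TensorProduct.AlgebraTensorModule.cancelBaseChange A B B' B' M
  let e4 : A' ⊗[A] M ≃ₗ[A'] M' := (IsLocalizedModule.isBaseChange S A' g).equiv
  let e5 : B' ⊗[A'] (A' ⊗[A] M) ≃ₗ[B'] B' ⊗[A'] M' :=
    TensorProduct.AlgebraTensorModule.congr (LinearEquiv.refl B' B') e4
  let e6 : B' ⊗[A'] (A' ⊗[A] M) ≃ₗ[B'] B' ⊗[A] M :=
    TensorProduct.AlgebraTensorModule.cancelBaseChange A A' B' B' M
  exact ⟨e1.symm ≪≫ₗ e2 ≪≫ₗ e3 ≪≫ₗ e6.symm ≪≫ₗ e5⟩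

end Groth.Agent.Lib.Helper18
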